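import Mathlib
import Cfsg.Agent.Lib.MatConj.Jordan
import Cfsg.Agent.Lib.QF.Orthonormal
import Cfsg.Agent.Lib.Unitary.Basic
import Cfsg.Agent.S2587

/-!
# Involutions of `SL` and `SU` in characteristic two
-/

set_option autoImplicit false

namespace H66

open Matrix

theorem exists_conj_mem_ker {G A : Type*} [Group G] [CommGroup A] (φ : G →* A) {x a b : G}
    (ha : IsConj x a) (hb : IsConj x b) (h : ∀ g, ∃ d, d * x = x * d ∧ φ d = φ g) :
    ∃ k, φ k = 1 ∧ k * a * k⁻¹ = b := by
  obtain ⟨g, rfl⟩ := isConj_iff.mp ha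
  obtain ⟨g', rfl⟩ := isConj_iff.mp hb
  obtain ⟨d, hd, hφ⟩ := h (g * g'⁻¹)
  refine ⟨g' * d * g⁻¹, by simp [hφ], ?_⟩
  calc _ = g' * (d * x) * d⁻¹ * g'⁻¹ := by group
    _ = _ := by rw [hd]; group

variable {F : Type*} [Field F]

theorem rank_mul_eq_card {n l : Type*} [Fintype n] [Fintype l] [DecidableEq l]
    (A : Matrix n l F) (B : Matrix l n F) (A' : Matrix l n F) (B' : Matrix n l F)
    (h1 : A' * A = 1) (h2 : B * B' = 1) : (A * B).rank = Fintype.card l := by
  apply le_antisymm ((rank_mul_le_left A B).trans (rank_le_card_width A))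
  have : A' * (A * B) * B' = 1 := by rw [← Matrix.mul_assoc, h1, Matrix.one_mul, h2]
  rw [← rank_one (R := F), ← this]
  exact (rank_mul_le_left _ _).trans (rank_mul_le_right _ _)

variable (F) in
/-- Inclusion of `l` consecutive coordinates starting at `s`. -/
def incl (n l s : ℕ) : Matrix (Fin n) (Fin l) F :=
  Matrix.of fun i j => if i.val = j.val + s then 1 else 0

theorem incl_transpose_mul {n l s : ℕ} (h : l + s ≤ n) : (incl F n l s)ᵀ * incl F n l s = 1 := by
  ext j k
  simp only [incl, mul_apply, transpose_apply, of_apply, one_apply, Fin.ext_iff]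
  rw [Finset.sum_eq_single ⟨j + s, by omega⟩]
  · simp
  · intro i _ hi
    rw [if_neg (fun h => hi (Fin.ext h)), zero_mul]
  · simp

theorem incl_transpose_mul_eq_zero {n l s t : ℕ} (h : l + s ≤ t ∨ l + t ≤ s) :
    (incl F n l s)ᵀ * incl F n l t = 0 := by
  ext j k
  simp only [incl, mul_apply, transpose_apply, of_apply, Matrix.zero_apply]
  refine Finset.sum_eq_zero fun i _ => ?_
  split_ifs <;> first | omega | simp

theorem incl_mul_transpose_apply {n l s t : ℕ} (i k : Fin n) :
    (incl F n l s * (incl F n l t)ᵀ) i k =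
      if t ≤ k.val ∧ k.val < l + t ∧ i.val + t = k.val + s then 1 else 0 := by
  simp only [incl, mul_apply, transpose_apply, of_apply]
  split_ifs with h
  · rw [Finset.sum_eq_single ⟨k - t, by omega⟩]
    · rw [if_pos (by simp; omega), if_pos (by simp; omega), one_mul]
    · intro j _ hj
      rw [if_neg (c := k.val = _) (fun h => hj (Fin.ext (by simp; omega))), mul_zero]
    · simp
  · refine Finset.sum_eq_zero fun j _ => ?_
    split_ifs <;> first | omega | simp

theorem isNilpotent_of_mul_self {R : Type*} [Ring R] {x : R} (h : x * x = 0) : IsNilpotent x :=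
  ⟨2, by rw [sq, h]⟩

theorem isConj_of_sq_zero {n : Type*} [Fintype n] [DecidableEq n] {A B : Matrix n n F}
    (hA : (A - 1) * (A - 1) = 0) (hB : (B - 1) * (B - 1) = 0) (h : (A - 1).rank = (B - 1).rank) :
    IsConj A B := by
  refine H65.isConj_of_unipotent (isNilpotent_of_mul_self hA) (isNilpotent_of_mul_self hB)
    fun j => ?_
  rcases j with _ | _ | j
  · simp
  · simpa using h
  · rw [pow_succ, pow_succ, mul_assoc, hA, pow_succ, pow_succ, mul_assoc, hB, mul_zero, mul_zero]

theorem rank_eq_of_isConj {n : Type*} [Fintype n] [DecidableEq n] {A B : Matrix n n F}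
    (h : IsConj A B) : (A - 1).rank = (B - 1).rank := by
  have := (H65.isConj_iff_rank A B).mp h (Polynomial.X - 1)
  rwa [map_sub, map_sub, Polynomial.aeval_X, Polynomial.aeval_X, map_one, map_one] at this

variable [CharP F 2]

theorem mat_add_self {m n : Type*} (A : Matrix m n F) : A + A = 0 := by
  ext; exact CharTwo.add_self_eq_zero _

theorem sub_one_mul_self_iff {n : Type*} [Fintype n] [DecidableEq n] {A : Matrix n n F} :
    (A - 1) * (A - 1) = 0 ↔ A * A = 1 := by
  have : (A - 1) * (A - 1) = A * A - 1 - (A + A) + (1 + 1) := by noncomm_ring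
  rw [this, mat_add_self, mat_add_self, sub_zero, add_zero, sub_eq_zero]

variable (F) in
/-- The permutation matrix interchanging the first and the last `l` coordinates. -/
def swapMat (n l : ℕ) : Matrix (Fin n) (Fin n) F :=
  Matrix.of fun i j : Fin n => if (j.val < l ∧ i.val = j.val + (n - l)) ∨
    (i.val < l ∧ j.val = i.val + (n - l)) ∨ (i = j ∧ l ≤ i.val ∧ i.val < n - l) then (1 : F) else 0

theorem swapMat_sub_one {n l : ℕ} (h : 2 * l ≤ n) : swapMat F n l - 1 =
    (incl F n l 0 + incl F n l (n - l)) * (incl F n l 0 + incl F n l (n - l))ᵀ := by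
  ext i k
  have := i.2
  have := k.2
  simp only [transpose_add, Matrix.mul_add, Matrix.add_mul, Matrix.add_apply,
    incl_mul_transpose_apply, Matrix.sub_apply, swapMat, of_apply, one_apply, Fin.ext_iff]
  split_ifs <;> first | omega | simp [CharTwo.neg_eq]

theorem swapMat_sq_zero {n l : ℕ} (h : 2 * l ≤ n) :
    (swapMat F n l - 1) * (swapMat F n l - 1) = 0 := by
  have : (incl F n l 0 + incl F n l (n - l))ᵀ * (incl F n l 0 + incl F n l (n - l)) = 0 := by
    rw [transpose_add, Matrix.mul_add, Matrix.add_mul, Matrix.add_mul,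
      incl_transpose_mul (by omega), incl_transpose_mul (by omega),
      incl_transpose_mul_eq_zero (by omega), incl_transpose_mul_eq_zero (by omega), add_zero,
      zero_add, mat_add_self]
  rw [swapMat_sub_one h, Matrix.mul_assoc, ← Matrix.mul_assoc _ᵀ, this, Matrix.zero_mul,
    Matrix.mul_zero]

theorem rank_swapMat {n l : ℕ} (h : 2 * l ≤ n) : (swapMat F n l - 1).rank = l := by
  have : (incl F n l 0)ᵀ * (incl F n l 0 + incl F n l (n - l)) = 1 := by
    rw [Matrix.mul_add, incl_transpose_mul (by omega), incl_transpose_mul_eq_zero (by omega),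
      add_zero]
  rw [swapMat_sub_one h, rank_mul_eq_card _ _ _ (incl F n l 0) this
    (by rw [← transpose_one, ← this, transpose_mul, transpose_transpose]), Fintype.card_fin]

theorem det_swapMat {n l : ℕ} (h : 2 * l ≤ n) : (swapMat F n l).det = 1 :=
  H65.det_eq_one_of_unipotent (isNilpotent_of_mul_self (swapMat_sq_zero h))

omit [CharP F 2] in
theorem swapMat_transpose (n l : ℕ) : (swapMat F n l)ᵀ = swapMat F n l := by
  ext i j
  simp only [swapMat, transpose_apply, of_apply, Fin.ext_iff]
  split_ifs <;> first | rfl | omega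

omit [CharP F 2] in
theorem swapMat_map (n l : ℕ) (σ : F →+* F) : (swapMat F n l).map σ = swapMat F n l := by
  ext i j
  simp only [swapMat, map_apply, of_apply]
  split_ifs <;> simp

/-- A diagonal matrix commuting with `swapMat`. -/
def pairDiag (n l : ℕ) (z : F) : Matrix (Fin n) (Fin n) F :=
  diagonal fun i => if i.val = 0 ∨ i.val = n - l then z else 1

omit [CharP F 2] in
theorem pairDiag_mul_swapMat {n l : ℕ} (h : 2 * l ≤ n) (z : F) :
    pairDiag n l z * swapMat F n l = swapMat F n l * pairDiag n l z := by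
  ext i j
  simp only [pairDiag, diagonal_mul, mul_diagonal, swapMat, of_apply, Fin.ext_iff]
  split_ifs <;> first | omega | simp

omit [CharP F 2] in
theorem det_pairDiag {n l : ℕ} (h1 : 1 ≤ l) (h : 2 * l ≤ n) (z : F) :
    (pairDiag n l z).det = z ^ 2 := by
  rw [pairDiag, det_diagonal, Finset.prod_eq_mul (⟨0, by omega⟩ : Fin n) ⟨n - l, by omega⟩]
  · simp [sq]
  · simp [Fin.ext_iff]; omega
  · intro c _ hc
    rw [if_neg]
    rintro (h | h)
    · exact hc.1 (Fin.ext h)
    · exact hc.2 (Fin.ext h)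
  · simp
  · simp

omit [CharP F 2] in
theorem rank_bounds {n : ℕ} {A : Matrix (Fin n) (Fin n) F} (hA : (A - 1) * (A - 1) = 0)
    (h1 : A ≠ 1) : 1 ≤ (A - 1).rank ∧ 2 * (A - 1).rank ≤ n := by
  constructor
  · rw [Nat.one_le_iff_ne_zero, Ne, Matrix.rank, Submodule.finrank_eq_zero, LinearMap.range_eq_bot]
    intro h
    exact h1 (sub_eq_zero.mp (Matrix.ext_of_mulVec_single fun i => by
      exact (LinearMap.congr_fun h (Pi.single i 1)).trans (zero_mulVec _).symm))
  · have := rank_add_rank_le_card_of_mul_eq_zero hA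
    rw [Fintype.card_fin] at this
    omega

theorem isConj_SL_iff_rank [Finite F] {n : ℕ} (a b : SpecialLinearGroup (Fin n) F)
    (ha : orderOf a = 2) (hb : orderOf b = 2) : IsConj a b ↔ (a.1 - 1).rank = (b.1 - 1).rank := by
  refine ⟨fun h => rank_eq_of_isConj (SpecialLinearGroup.coeMonoidHom.map_isConj h), fun h => ?_⟩
  rw [orderOf_eq_prime_iff, sq] at ha hb
  have ha' := sub_one_mul_self_iff.mpr (congrArg Subtype.val ha.1)
  have hb' := sub_one_mul_self_iff.mpr (congrArg Subtype.val hb.1)
  obtain ⟨h1, h2⟩ := rank_bounds ha' fun h => ha.2 (Subtype.ext h)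
  let x : GL (Fin n) F := SpecialLinearGroup.toGL ⟨_, det_swapMat h2⟩
  obtain ⟨k, hk, hab⟩ := exists_conj_mem_ker GeneralLinearGroup.det (x := x)
    (a := SpecialLinearGroup.toGL a) (b := SpecialLinearGroup.toGL b)
    ((H65.isConj_gl_iff _ _).mpr (isConj_of_sq_zero (swapMat_sq_zero h2) ha' (rank_swapMat h2)))
    ((H65.isConj_gl_iff _ _).mpr
      (isConj_of_sq_zero (swapMat_sq_zero h2) hb' ((rank_swapMat h2).trans h))) (fun g => by
      obtain ⟨z, hz⟩ := exists_sq_eq_char_two g.val.det
      have hd := (det_pairDiag h1 h2 z).trans hz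
      exact ⟨GeneralLinearGroup.mkOfDetNeZero _ (hd ▸ g.det_ne_zero),
        Units.ext (pairDiag_mul_swapMat h2 z), Units.ext hd⟩)
  let k' : SpecialLinearGroup (Fin n) F := ⟨k.val, congrArg Units.val hk⟩
  have hk' : SpecialLinearGroup.toGL k' = k := Units.ext rfl
  exact isConj_iff.mpr ⟨k', SpecialLinearGroup.toGL_injective (by
    rw [map_mul, map_mul, map_inv, hk', hab])⟩

open H11.U in
theorem isIso_swapMat [Fintype F] {q : ℕ} [IsSq F q] {n l : ℕ} (h : 2 * l ≤ n) :
    IsIso q (swapMat F n l) := by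
  rw [isIso_iff, swapMat_map, swapMat_transpose, ← sub_one_mul_self_iff, swapMat_sq_zero h]

open H11.U in
theorem isConj_SU_iff_rank [Fintype F] {n q : ℕ} (hF : Fintype.card F = q ^ 2)
    (a b : Cfsg.SU n F q) (ha : orderOf a = 2) (hb : orderOf b = 2) :
    IsConj a b ↔ (a.1.1 - 1).rank = (b.1.1 - 1).rank := by
  have : IsSq F q := ⟨hF⟩
  refine ⟨fun h => rank_eq_of_isConj (SpecialLinearGroup.coeMonoidHom.map_isConj
    ((Cfsg.SU n F q).subtype.map_isConj h)), fun h => ?_⟩
  rw [orderOf_eq_prime_iff, sq] at ha hb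
  have ha' := sub_one_mul_self_iff.mpr (congrArg (fun x : Cfsg.SU n F q => x.1.1) ha.1)
  have hb' := sub_one_mul_self_iff.mpr (congrArg (fun x : Cfsg.SU n F q => x.1.1) hb.1)
  obtain ⟨h1, h2⟩ := rank_bounds ha' fun h => ha.2 (Subtype.ext (Subtype.ext h))
  obtain ⟨k, hk, hab⟩ := exists_conj_mem_ker (GeneralLinearGroup.det.comp (Cfsg.GU n F q).subtype)
    (x := toGU _ (isIso_swapMat h2)) (a := suToGU n F q a) (b := suToGU n F q b)
    ((Cfsg.Agent.S2587.result hF _ _).mpr ((H65.isConj_gl_iff _ _).mpr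
      (isConj_of_sq_zero (swapMat_sq_zero h2) ha' (rank_swapMat h2))))
    ((Cfsg.Agent.S2587.result hF _ _).mpr ((H65.isConj_gl_iff _ _).mpr
      (isConj_of_sq_zero (swapMat_sq_zero h2) hb' ((rank_swapMat h2).trans h)))) (fun g => by
      obtain ⟨z, hz⟩ := exists_sq_eq_char_two g.1.val.det
      have hd := (det_pairDiag h1 h2 z).trans hz
      have hz1 : z * cj q z = 1 := by
        apply frobenius_inj F 2
        rw [frobenius_def, frobenius_def, mul_pow, ← map_pow, hz, one_pow]
        exact IsIso.det_mul_cj g.2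
      have hI : IsIso q (pairDiag n (a.1.1 - 1).rank z) := by
        rw [isIso_iff, pairDiag, diagonal_transpose, diagonal_map (map_zero _),
          diagonal_mul_diagonal, ← diagonal_one]
        congr 1
        ext i
        split_ifs <;> simp [hz1]
      exact ⟨toGU _ hI, Subtype.ext (Units.ext (pairDiag_mul_swapMat h2 z)), Units.ext hd⟩)
  obtain ⟨k', rfl⟩ := (mem_range_suToGU (g := k)).mpr (congrArg Units.val hk)
  exact isConj_iff.mpr ⟨k', suToGU_injective (by rw [map_mul, map_mul, map_inv, hab])⟩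

end H66
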